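import Mathlib.GroupTheory.Sylow
import Cfsg.Agent.Lib.Coprime.Generation

/-!
Modules for groups of exponent `p` with centre of order `p` acting fixed-point-freely: the module is a
`p`-th power of the fixed points of a noncentral element, and it is exponentially large.
-/

set_option autoImplicit false

namespace Cfsg.Agent.Lib.FreeClass

open Subgroup

universe u

variable {Q : Type u} [Group Q] {W : Type u} [CommGroup W] [MulDistribMulAction Q W]

/-- The fixed points of an element. -/
def fixOne (W : Type u) [CommGroup W] [MulDistribMulAction Q W] (c : Q) : Subgroup W where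
  carrier := {w | c • w = w}
  one_mem' := smul_one c
  mul_mem' {a b} ha hb := by
    show c • (a * b) = a * b
    rw [smul_mul', show c • a = a from ha, show c • b = b from hb]
  inv_mem' {a} ha := by
    show c • a⁻¹ = a⁻¹
    rw [smul_inv', show c • a = a from ha]

theorem mem_fixOne {c : Q} {w : W} : w ∈ fixOne W c ↔ c • w = w := Iff.rfl

theorem fixed_pow {c : Q} {w : W} (h : c • w = w) : ∀ n : ℕ, c ^ n • w = w
  | 0 => by rw [pow_zero, one_smul]
  | n + 1 => by rw [pow_succ, mul_smul, h, fixed_pow h n]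

/-- The product over the powers of `c` is fixed by `c`. -/
theorem smul_prod_pow {p : ℕ} [Fact p.Prime] {c : Q} (hc : c ^ p = 1) (w : W) :
    c • (∏ j : ZMod p, c ^ j.val • w) = ∏ j : ZMod p, c ^ j.val • w := by
  rw [Finset.smul_prod']
  refine Fintype.prod_equiv (Equiv.addRight (1 : ZMod p)) _ _ (fun j => ?_)
  simp only [Equiv.coe_addRight]
  rw [← mul_smul, ← pow_succ', ZMod.val_add, ← pow_eq_pow_mod _ hc, ZMod.val_one]

theorem smul_mem_fixOne {a z e : Q} {i : ℕ} (hea : a * e = e * (a * z ^ i)) {w : W}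
    (hw : (a * z ^ i) • w = w) : e • w ∈ fixOne W a := by
  show a • e • w = e • w
  rw [← mul_smul, hea, mul_smul, hw]

/-- If some element conjugates `a` to `a * z`, `z` central and fixed-point-free, then the module is the
`p`-th power of the fixed points of `a`. -/
theorem card_eq_pow [Finite W] {p : ℕ} [Fact p.Prime] (hcop : (Nat.card W).Coprime p) {a z e : Q}
    (ha : a ^ p = 1) (hz : z ^ p = 1) (hzc : ∀ x, Commute z x) (hfpf : ∀ w : W, z • w = w → w = 1)
    (he : e * a = a * z * e) : Nat.card W = Nat.card (fixOne W a) ^ p := by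
  classical
  have hek : ∀ i : ℕ, e ^ i * a = a * z ^ i * e ^ i := by
    intro i
    induction i with
    | zero => simp
    | succ i ih =>
      calc e ^ (i + 1) * a = e * (e ^ i * a) := by rw [pow_succ', mul_assoc]
        _ = (e * a) * z ^ i * e ^ i := by rw [ih]; simp only [mul_assoc]
        _ = a * z * (e * z ^ i) * e ^ i := by rw [he]; simp only [mul_assoc]
        _ = a * z * (z ^ i * e) * e ^ i := by rw [((hzc e).pow_left i).eq]
        _ = a * z ^ (i + 1) * e ^ (i + 1) := by simp only [pow_succ' z, pow_succ' e, mul_assoc]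
  have haz : ∀ i : ℕ, (a * z ^ i) ^ p = 1 := fun i => by
    rw [((hzc a).symm.pow_right i).mul_pow, ha, ← pow_mul, mul_comm, pow_mul, hz, one_pow, one_mul]
  let Φ : (ZMod p → fixOne W a) →* W :=
    { toFun := fun f => ∏ i : ZMod p, e ^ i.val • (f i : W)
      map_one' := by simp
      map_mul' := fun f g => by simp [smul_mul', Finset.prod_mul_distrib] }
  have hcomp : ∀ (i : ZMod p) (w : fixOne W a), (a * z ^ i.val) • (e ^ i.val • (w : W)) = e ^ i.val • (w : W) := by
    intro i w
    rw [← mul_smul, ← hek, mul_smul, show a • (w : W) = w from w.2]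
  have hinj : Function.Injective Φ := by
    rw [injective_iff_map_eq_one]
    intro f hf
    funext j
    -- projection onto the component `j`
    set g := a * z ^ j.val with hg
    have hproj : ∀ i : ZMod p, i ≠ j →
        (∏ k : ZMod p, g ^ k.val • (e ^ i.val • (f i : W))) = 1 := by
      intro i hij
      set w := e ^ i.val • (f i : W) with hw
      set r := ∏ k : ZMod p, g ^ k.val • w with hr
      have h1 : g • r = r := smul_prod_pow (haz _) w
      have h2 : (a * z ^ i.val) • r = r := by
        rw [hr, Finset.smul_prod']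
        refine Finset.prod_congr rfl fun k _ => ?_
        have hc : Commute (a * z ^ i.val) (g ^ k.val) := by
          refine Commute.pow_right ?_ _
          have hza : Commute z a := hzc a
          exact ((Commute.refl a).mul_right (hza.symm.pow_right _)).mul_left
            ((hza.pow_left _).mul_right ((Commute.refl z).pow_pow _ _))
        rw [← mul_smul, hc.eq, mul_smul, hw, hcomp]
      have h3 : ∀ m : ℕ, (a * z ^ m) • r = r → z ^ m • r = a⁻¹ • r := fun m hm => by
        rw [eq_inv_smul_iff, ← mul_smul, hm]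
      have h4 : z ^ i.val • r = z ^ j.val • r := by rw [h3 _ h2, h3 _ h1]
      refine hfpf r ?_
      have h5 : z ^ (i - j).val • r = r := by
        have hs : z ^ (i - j).val * z ^ j.val = z ^ i.val := by
          rw [← pow_add, pow_eq_pow_mod _ hz, ← ZMod.val_add, sub_add_cancel]
        rw [← hs, mul_smul, ← mul_smul, ((Commute.refl z).pow_pow _ _).eq, mul_smul] at h4
        exact MulAction.injective _ h4
      have h6 : z ^ ((i - j).val * ((i - j)⁻¹).val) • r = r := by rw [pow_mul]; exact fixed_pow h5 _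
      rwa [pow_eq_pow_mod _ hz, ← ZMod.val_mul, mul_inv_cancel₀ (sub_ne_zero.mpr hij), ZMod.val_one,
        pow_one] at h6
    have hself : (∏ k : ZMod p, g ^ k.val • (e ^ j.val • (f j : W))) = (e ^ j.val • (f j : W)) ^ p := by
      rw [Finset.prod_congr rfl (fun k _ => fixed_pow (hcomp j (f j)) k.val), Finset.prod_const,
        Finset.card_univ, ZMod.card]
    have htot : (∏ k : ZMod p, g ^ k.val • Φ f) = (e ^ j.val • (f j : W)) ^ p := by
      show (∏ k : ZMod p, g ^ k.val • ∏ i : ZMod p, e ^ i.val • (f i : W)) = _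
      simp only [Finset.smul_prod']
      rw [Finset.prod_comm, Finset.prod_eq_single j (fun i _ hi => hproj i hi)
        (fun h => absurd (Finset.mem_univ j) h), hself]
    rw [hf] at htot
    simp only [smul_one, Finset.prod_const_one] at htot
    have h7 : e ^ j.val • (f j : W) = 1 := by
      have := (Nat.Coprime.pow_left_bijective hcop).1 (htot.symm.trans (one_pow p).symm)
      exact this
    apply Subtype.ext
    rw [← smul_one (e ^ j.val)] at h7
    exact MulAction.injective _ h7
  have hsurj : Function.Surjective Φ := by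
    intro w
    obtain ⟨v, rfl⟩ := (Nat.Coprime.pow_left_bijective hcop).2 w
    show v ^ p ∈ Φ.range
    let f : ZMod p × ZMod p → W := fun x => Coprime.pairPow a z x • v
    have hid := Coprime.pow_prime_mul_norm f
    have hline : ∀ i j : ZMod p, f (j, i * j) = (a * z ^ i.val) ^ j.val • v := by
      intro i j
      show (a ^ j.val * z ^ (i * j).val) • v = _
      rw [((hzc a).symm.pow_right _).mul_pow, ← pow_mul, ZMod.val_mul, ← pow_eq_pow_mod _ hz]
    have h0 : (∏ j : ZMod p, f (0, j)) = 1 := by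
      refine hfpf _ ?_
      have h1 : ∀ j : ZMod p, f (0, j) = z ^ j.val • v := fun j => by
        show (a ^ (0 : ZMod p).val * z ^ j.val) • v = _
        rw [ZMod.val_zero, pow_zero, one_mul]
      simp only [h1]
      exact smul_prod_pow hz v
    have h1 : (∏ x : ZMod p × ZMod p, f x) = 1 := by
      refine hfpf _ ?_
      rw [Finset.smul_prod']
      refine Fintype.prod_equiv (Equiv.addRight ((0, 1) : ZMod p × ZMod p)) _ _ (fun x => ?_)
      simp only [Equiv.coe_addRight, f]
      rw [Coprime.pairPow_add (hzc a).symm ha hz, ← mul_smul]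
      congr 1
      show z * (a ^ x.1.val * z ^ x.2.val) = a ^ x.1.val * z ^ x.2.val * (a ^ (0 : ZMod p).val * z ^ (1 : ZMod p).val)
      rw [ZMod.val_zero, ZMod.val_one, pow_zero, pow_one, one_mul, ← mul_assoc, ((hzc a).pow_right _).eq,
        mul_assoc, ← pow_succ', pow_succ, mul_assoc]
    have hf0 : f 0 = v := by simp [f, Coprime.pairPow]
    rw [h0, h1, mul_one, mul_one, hf0] at hid
    rw [← hid]
    refine Subgroup.prod_mem _ fun i _ => ?_
    set n := ∏ j : ZMod p, f (j, i * j) with hn
    have hn1 : (a * z ^ i.val) • n = n := by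
      simp only [hn, hline]
      exact smul_prod_pow (haz _) v
    have hn2 : (e ^ i.val)⁻¹ • n ∈ fixOne W a := by
      show a • (e ^ i.val)⁻¹ • n = (e ^ i.val)⁻¹ • n
      rw [← mul_smul, show a * (e ^ i.val)⁻¹ = (e ^ i.val)⁻¹ * (a * z ^ i.val) by
        rw [eq_inv_mul_iff_mul_eq, ← mul_assoc, hek, mul_inv_cancel_right], mul_smul, hn1]
    refine ⟨Pi.mulSingle i ⟨_, hn2⟩, ?_⟩
    show (∏ k : ZMod p, e ^ k.val • ((Pi.mulSingle i (⟨_, hn2⟩ : fixOne W a) : ZMod p → fixOne W a) k : W)) = n
    rw [Finset.prod_eq_single i (fun k _ hk => by rw [Pi.mulSingle_eq_of_ne hk]; simp)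
      (fun h => absurd (Finset.mem_univ i) h), Pi.mulSingle_eq_same]
    exact smul_inv_smul _ _
  rw [← Nat.card_congr (Equiv.ofBijective Φ ⟨hinj, hsurj⟩), Nat.card_fun, Nat.card_zmod]

/-- The commutator map into a central subgroup of order `p`. -/
theorem exists_conj_eq_mul {p : ℕ} [Fact p.Prime] {z : Q} (hz : orderOf z = p)
    {a e : Q} (h : e * a * e⁻¹ * a⁻¹ ∈ zpowers z) (hne : e * a * e⁻¹ * a⁻¹ ≠ 1) :
    orderOf (e * a * e⁻¹ * a⁻¹) = p ∧ zpowers (e * a * e⁻¹ * a⁻¹) = zpowers z := by
  set c := e * a * e⁻¹ * a⁻¹ with hc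
  obtain ⟨k, hk⟩ := Subgroup.mem_zpowers_iff.mp h
  have hcp : c ^ p = 1 := by rw [← hk, ← zpow_natCast, ← zpow_mul, mul_comm, zpow_mul, zpow_natCast, ← hz, pow_orderOf_eq_one, one_zpow]
  have ho := orderOf_eq_prime hcp hne
  refine ⟨ho, ?_⟩
  haveI : Finite (zpowers z) := Nat.finite_of_card_ne_zero (by rw [Nat.card_zpowers, hz]; exact (Fact.out : p.Prime).ne_zero)
  exact Subgroup.eq_of_le_of_card_ge (zpowers_le.mpr h) (by rw [Nat.card_zpowers, Nat.card_zpowers, hz, ho])

/-- A fixed-point-free module of a group of exponent `p` with centre of order `p` is exponentially large. -/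
theorem card_ge {p : ℕ} [Fact p.Prime] : ∀ (n : ℕ) (Q : Type u) [Group Q] [Finite Q] (W : Type u) [CommGroup W]
    [Finite W] [MulDistribMulAction Q W] (z : Q), Nat.card Q = n → (∀ x : Q, x ^ p = 1) → orderOf z = p →
    (∀ x, Commute z x) → (∀ x : Q, (∀ y, Commute x y) → x ∈ zpowers z) →
    (∀ x y : Q, x * y * x⁻¹ * y⁻¹ ∈ zpowers z) →
    (Nat.card W).Coprime p → (∀ w : W, z • w = w → w = 1) → 1 < Nat.card W →
    ∃ k : ℕ, n = p ^ (2 * k + 1) ∧ (p + 1) ^ (p ^ k) ≤ Nat.card W := by
  intro n
  induction n using Nat.strong_induction_on with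
  | _ n ih =>
    intro Q _ _ W _ _ _ z hn hexp hz hzc hcen hcomm hcop hfpf hW
    have hp : p.Prime := Fact.out
    have hzp : z ^ p = 1 := hexp z
    by_cases hall : ∀ x : Q, x ∈ zpowers z
    · refine ⟨0, ?_, ?_⟩
      · rw [← hn, ← Subgroup.card_top (G := Q), ← (eq_top_iff' (zpowers z)).mpr hall, Nat.card_zpowers, hz]
        simp
      · have hZ : IsPGroup p (zpowers z) := IsPGroup.of_card (n := 1) (by rw [Nat.card_zpowers, hz, pow_one])
        have hmod := hZ.card_modEq_card_fixedPoints W
        have hfix : MulAction.fixedPoints (zpowers z) W = {1} := by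
          ext w
          rw [Set.mem_singleton_iff]
          refine ⟨fun h => hfpf w (h ⟨z, mem_zpowers z⟩), fun h g => ?_⟩
          subst h
          exact smul_one (g : Q)
        rw [hfix, Nat.card_coe_set_eq, Set.ncard_singleton] at hmod
        have hdvd := (Nat.modEq_iff_dvd' hW.le).mp hmod.symm
        have := Nat.le_of_dvd (by omega) hdvd
        simp only [pow_zero, pow_one]
        omega
    simp only [not_forall] at hall
    obtain ⟨a, ha⟩ := hall
    have hnc : ¬ ∀ y, Commute a y := fun h => ha (hcen a h)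
    simp only [not_forall] at hnc
    obtain ⟨e, he⟩ := hnc
    set z' := e * a * e⁻¹ * a⁻¹ with hz'def
    have hz'ne : z' ≠ 1 := by
      intro h
      rw [hz'def, mul_inv_eq_one, mul_inv_eq_iff_eq_mul] at h
      exact he h.symm
    obtain ⟨hz', hzz'⟩ := exists_conj_eq_mul hz (hcomm e a) hz'ne
    have hz'c : ∀ x, Commute z' x := by
      intro x
      obtain ⟨k, hk⟩ := Subgroup.mem_zpowers_iff.mp (hcomm e a)
      rw [hz'def, ← hk]
      exact (hzc x).zpow_left k
    have hea : e * a = a * z' * e := by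
      rw [← (hz'c a).eq, hz'def]; group
    have hfpf' : ∀ w : W, z' • w = w → w = 1 := by
      intro w hw
      obtain ⟨k, hk⟩ := Subgroup.mem_zpowers_iff.mp (hzz'.ge (mem_zpowers z))
      refine hfpf w ?_
      rw [← hk]
      exact MulAction.mem_stabilizer_iff.mp (Subgroup.zpow_mem _ (MulAction.mem_stabilizer_iff.mpr hw) k)
    have hWcard := card_eq_pow hcop (hexp a) (hexp z') hz'c hfpf' hea
    -- the centralizer of `a` and `e`
    let ξ : Q →* zpowers z × zpowers z :=
      { toFun := fun x => (⟨_, hcomm x a⟩, ⟨_, hcomm x e⟩)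
        map_one' := by ext <;> simp
        map_mul' := fun x y => by
          have key : ∀ b : Q, x * y * b * (x * y)⁻¹ * b⁻¹ = (x * b * x⁻¹ * b⁻¹) * (y * b * y⁻¹ * b⁻¹) := by
            intro b
            obtain ⟨k, hk⟩ := Subgroup.mem_zpowers_iff.mp (hcomm y b)
            have hc : Commute (y * b * y⁻¹ * b⁻¹) x := by rw [← hk]; exact (hzc x).zpow_left k
            have hc' : Commute (y * b * y⁻¹ * b⁻¹) (x * b * x⁻¹ * b⁻¹) := by rw [← hk]; exact (hzc _).zpow_left k
            calc x * y * b * (x * y)⁻¹ * b⁻¹ = x * (y * b * y⁻¹ * b⁻¹) * b * x⁻¹ * b⁻¹ := by group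
              _ = (y * b * y⁻¹ * b⁻¹) * (x * b * x⁻¹ * b⁻¹) := by rw [← hc.eq]; group
              _ = _ := hc'.eq
          ext
          · exact key a
          · exact key e }
    set Q₁ := ξ.ker with hQ₁def
    have hQ₁ : ∀ x, x ∈ Q₁ ↔ Commute x a ∧ Commute x e := by
      intro x
      simp only [hQ₁def, MonoidHom.mem_ker, ξ, MonoidHom.coe_mk, OneHom.coe_mk, Prod.ext_iff,
        Subtype.ext_iff, Prod.fst_one, Prod.snd_one, OneMemClass.coe_one, mul_inv_eq_one, mul_inv_eq_iff_eq_mul, one_mul]
      rfl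
    have hξe : ξ e = (⟨z', hcomm e a⟩, 1) := by
      ext
      · rfl
      · show e * e * e⁻¹ * e⁻¹ = 1; group
    have hξa : ξ a = (1, ⟨z'⁻¹, inv_mem (hcomm e a)⟩) := by
      ext
      · show a * a * a⁻¹ * a⁻¹ = 1; group
      · show a * e * a⁻¹ * e⁻¹ = z'⁻¹; rw [hz'def]; group
    have hsurjξ : ∀ t, ∃ i j : ℤ, ξ (e ^ i * a ^ j) = t := by
      rintro ⟨⟨s, hs⟩, ⟨t, ht⟩⟩
      obtain ⟨i, hi⟩ := Subgroup.mem_zpowers_iff.mp (hzz'.ge hs)
      obtain ⟨j, hj⟩ := Subgroup.mem_zpowers_iff.mp (hzz'.ge ht)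
      refine ⟨i, -j, ?_⟩
      rw [map_mul, map_zpow, map_zpow, hξe, hξa]
      ext
      · simpa using hi
      · simpa using hj
    have hcardQ₁ : n = p ^ 2 * Nat.card Q₁ := by
      have h1 := Q₁.card_mul_index
      rw [hQ₁def, Subgroup.index_ker, MonoidHom.range_eq_top_of_surjective ξ
        (fun t => by obtain ⟨i, j, h⟩ := hsurjξ t; exact ⟨_, h⟩), Subgroup.card_top, Nat.card_prod,
        Nat.card_zpowers, hz, ← hQ₁def] at h1
      rw [← hn, ← h1, mul_comm, sq]
    have hzQ₁ : z ∈ Q₁ := (hQ₁ z).mpr ⟨hzc a, hzc e⟩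
    have hQ₁pos : 0 < Nat.card Q₁ := Nat.card_pos
    have hcardlt : Nat.card Q₁ < n := by
      rw [hcardQ₁]
      refine lt_mul_of_one_lt_left hQ₁pos ?_
      exact Nat.one_lt_pow two_ne_zero hp.one_lt
    have hzpow : ∀ x : Q₁, (x : Q) ∈ zpowers z → x ∈ zpowers (⟨z, hzQ₁⟩ : Q₁) := by
      intro x hx
      obtain ⟨k, hk⟩ := Subgroup.mem_zpowers_iff.mp hx
      exact ⟨k, Subtype.ext (by simpa using hk)⟩
    -- the action on the fixed points of `a`
    letI : MulDistribMulAction Q₁ (fixOne W a) :=
      { smul := fun g w => ⟨(g : Q) • (w : W), by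
          show a • (g : Q) • (w : W) = (g : Q) • (w : W)
          rw [← mul_smul, ← ((hQ₁ _).mp g.2).1.eq, mul_smul, show a • (w : W) = w from w.2]⟩
        one_smul := fun w => Subtype.ext (one_smul Q (w : W))
        mul_smul := fun g h w => Subtype.ext (mul_smul (g : Q) (h : Q) (w : W))
        smul_mul := fun g v w => Subtype.ext (smul_mul' (g : Q) (v : W) (w : W))
        smul_one := fun g => Subtype.ext (smul_one (g : Q)) }
    have hW₁ : 1 < Nat.card (fixOne W a) := by
      by_contra h
      have : Nat.card (fixOne W a) = 1 := le_antisymm (not_lt.mp h) Nat.card_pos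
      rw [hWcard, this, one_pow] at hW
      exact lt_irrefl _ hW
    obtain ⟨k, hk, hbound⟩ := ih _ hcardlt Q₁ (fixOne W a) ⟨z, hzQ₁⟩ rfl
      (fun x => Subtype.ext (hexp x)) (by rw [← hz]; exact (orderOf_injective Q₁.subtype Q₁.subtype_injective _).symm)
      (fun x => Subtype.ext (hzc x)) (by
        intro x hx
        refine hzpow x (hcen x fun y => ?_)
        obtain ⟨i, j, hij⟩ := hsurjξ (ξ y)
        have hy : y = e ^ i * a ^ j * ((e ^ i * a ^ j)⁻¹ * y) := by group
        have hmem : (e ^ i * a ^ j)⁻¹ * y ∈ Q₁ := by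
          rw [hQ₁def, MonoidHom.mem_ker, map_mul, map_inv, hij, inv_mul_cancel]
        rw [hy]
        exact (((((hQ₁ _).mp x.2).2).zpow_right i).mul_right ((((hQ₁ _).mp x.2).1).zpow_right j)).mul_right
          (congrArg Subtype.val (hx ⟨_, hmem⟩)))
      (fun x y => hzpow _ (hcomm x y))
      (hcop.coprime_dvd_left (Subgroup.card_subgroup_dvd_card _))
      (fun w hw => Subtype.ext (hfpf _ (congrArg Subtype.val hw))) hW₁
    refine ⟨k + 1, ?_, ?_⟩
    · rw [hcardQ₁, hk, ← pow_add]; congr 1; omega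
    · rw [hWcard, pow_succ p k, pow_mul]
      exact Nat.pow_le_pow_left hbound p

end Cfsg.Agent.Lib.FreeClass
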