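import Cfsg.Agent.Lib.FreeClass.Subset
import Cfsg.Agent.Lib.FreeClass.Count
import Cfsg.Agent.Lib.CoprimeGen.Abelian
import Cfsg.Agent.Lib.Components.PRank3
import Cfsg.Agent.Lib.PGroups.SymplecticType

/-!
A class of elements of order `p` (`p` odd) in a normal `p`-subgroup acting coprimely on an abelian group
does not cover it by fixed points.
-/

set_option autoImplicit false

namespace Cfsg.Agent.Lib.FreeClass

open Subgroup

universe u

/-- The fixed points of a subgroup. -/
def fixSub {H : Type u} [Group H] (V : Type u) [CommGroup V] [MulDistribMulAction H V] (K : Subgroup H) :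
    Subgroup V where
  carrier := {v | ∀ k ∈ K, k • v = v}
  one_mem' k _ := smul_one k
  mul_mem' {a b} ha hb k hk := by rw [smul_mul', ha k hk, hb k hk]
  inv_mem' {a} ha k hk := by rw [smul_inv', ha k hk]

theorem mem_fixSub {H : Type u} [Group H] {V : Type u} [CommGroup V] [MulDistribMulAction H V]
    {K : Subgroup H} {v : V} : v ∈ fixSub V K ↔ ∀ k ∈ K, k • v = v := Iff.rfl

/-- The property to be proved, for a given size of the module. -/
def Statement (p n : ℕ) : Prop :=
  ∀ (H : Type u) [Group H] [Finite H] (V : Type u) [CommGroup V] [Finite V] [MulDistribMulAction H V]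
    (P : Subgroup H) (a : H), Nat.card V = n → P.Normal → IsPGroup p P → (Nat.card V).Coprime p →
    a ∈ P → a ^ p = 1 → (∃ v : V, a • v ≠ v) → ∃ v : V, ∀ h : H, (h * a * h⁻¹) • v ≠ v

section core

variable {H : Type u} [Group H] [Finite H] {V : Type u} [CommGroup V] [Finite V] [MulDistribMulAction H V]
  {p : ℕ} [hp : Fact p.Prime] {P : Subgroup H} {a : H}

theorem fixSub_normal_eq_bot (hfaith : ∀ h : H, (∀ v : V, h • v = v) → h = 1)
    (hirr : ∀ U : Subgroup V, (∀ h : H, ∀ u ∈ U, h • u ∈ U) → U = ⊥ ∨ U = ⊤)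
    {N : Subgroup H} (hN : N.Normal) (hN1 : N ≠ ⊥) : fixSub V N = ⊥ := by
  refine (hirr (fixSub V N) fun h v hv n hn => ?_).resolve_right fun hT => hN1 ?_
  · have h1 : (h⁻¹ * n * h) • v = v := hv _ (by simpa using hN.conj_mem n hn h⁻¹)
    calc n • h • v = h • (h⁻¹ * n * h) • v := by simp [← mul_smul, mul_assoc]
      _ = h • v := by rw [h1]
  · refine (Subgroup.eq_bot_iff_forall _).mpr fun n hn => hfaith n fun v => ?_
    have h1 : v ∈ fixSub V N := hT.symm ▸ mem_top v
    exact h1 n hn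

/-- The case of a noncyclic elementary abelian normal subgroup. -/
theorem core_abelian (hp2 : p ≠ 2) (hfaith : ∀ h : H, (∀ v : V, h • v = v) → h = 1)
    (hirr : ∀ U : Subgroup V, (∀ h : H, ∀ u ∈ U, h • u ∈ U) → U = ⊥ ∨ U = ⊤)
    (hPn : P.Normal) (hP : IsPGroup p P) (hcop : (Nat.card V).Coprime p)
    (ha : a ∈ P) (hap : a ^ p = 1) (hmov : ∃ v : V, a • v ≠ v)
    (IH : ∀ m < Nat.card V, Statement.{u} p m)
    {E : Subgroup H} (hEn : E.Normal) (hEP : E ≤ P) (hEab : IsMulCommutative E) (hEx : ∀ x ∈ E, x ^ p = 1)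
    (hEcard : p < Nat.card E) : ∃ v : V, ∀ h : H, (h * a * h⁻¹) • v ≠ v := by
  classical
  haveI : Fintype H := Fintype.ofFinite H
  have hEcomm : ∀ x ∈ E, ∀ y ∈ E, x * y = y * x := fun x hx y hy =>
    congrArg Subtype.val (hEab.is_comm.comm ⟨x, hx⟩ ⟨y, hy⟩)
  have hE1 : E ≠ ⊥ := fun h => by rw [h, Subgroup.card_bot] at hEcard; have := hp.out.one_lt; omega
  have hfixE : fixSub V E = ⊥ := fixSub_normal_eq_bot hfaith hirr hEn hE1
  let 𝒦 := {K : Subgroup H // K ≤ E ∧ K.relIndex E = p ∧ fixSub V K ≠ ⊥}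
  haveI : Fintype 𝒦 := Fintype.ofFinite 𝒦
  -- conjugation on the index set
  have hcconj : ∀ (h : H) (K : 𝒦), (K.1.map (MulAut.conj h).toMonoidHom) ≤ E ∧
      (K.1.map (MulAut.conj h).toMonoidHom).relIndex E = p ∧
      fixSub V (K.1.map (MulAut.conj h).toMonoidHom) ≠ ⊥ := by
    intro h K
    have hE' : E.map (MulAut.conj h).toMonoidHom = E := by
      apply le_antisymm
      · rintro _ ⟨x, hx, rfl⟩; exact hEn.conj_mem x hx h
      · intro x hx
        exact ⟨h⁻¹ * x * h, by simpa using hEn.conj_mem x hx h⁻¹, by simp [mul_assoc]⟩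
    refine ⟨(Subgroup.map_mono K.2.1).trans hE'.le, ?_, ?_⟩
    · have h1 := Subgroup.relIndex_map_map_of_injective K.1 E (f := (MulAut.conj h).toMonoidHom) (MulAut.conj h).injective
      rw [hE', K.2.2.1] at h1
      exact h1
    · intro h0
      apply K.2.2.2
      refine (Subgroup.eq_bot_iff_forall _).mpr fun v hv => ?_
      have h1 : h • v ∈ fixSub V (K.1.map (MulAut.conj h).toMonoidHom) := by
        rintro _ ⟨k, hk, rfl⟩
        show (h * k * h⁻¹) • h • v = h • v
        rw [mul_smul, inv_smul_smul, mul_smul, hv k hk]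
      rw [h0, mem_bot] at h1
      exact MulAction.injective h (h1.trans (smul_one h).symm)
  letI : MulAction H 𝒦 :=
    { smul := fun h K => ⟨K.1.map (MulAut.conj h).toMonoidHom, hcconj h K⟩
      one_smul := fun K => Subtype.ext (show K.1.map (MulAut.conj (1 : H)).toMonoidHom = K.1 by
        rw [map_one]; exact Subgroup.map_id _)
      mul_smul := fun g h K => Subtype.ext (show K.1.map (MulAut.conj (g * h)).toMonoidHom =
          (K.1.map (MulAut.conj h).toMonoidHom).map (MulAut.conj g).toMonoidHom by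
        rw [Subgroup.map_map, map_mul]; rfl) }
  have hsmul_mem : ∀ (h : H) (K : 𝒦) (v : V), v ∈ fixSub V K.1 → h • v ∈ fixSub V (h • K).1 := by
    rintro h K v hv _ ⟨k, hk, rfl⟩
    show (h * k * h⁻¹) • h • v = h • v
    rw [mul_smul, inv_smul_smul, mul_smul, hv k hk]
  -- projections
  have hindep : ∀ (f : 𝒦 → V), (∀ K, f K ∈ fixSub V K.1) → ∀ g : 𝒦 → V, (∀ K, g K ∈ fixSub V K.1) →
      ∏ K, f K = ∏ K, g K → f = g := by
    intro f hf g hg hfg
    funext K
    let pr : V → V := fun w => ∏ k : K.1, (k : H) • w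
    have hprmul : ∀ F : 𝒦 → V, pr (∏ L, F L) = ∏ L, pr (F L) := fun F => by
      simp only [pr, Finset.smul_prod']
      exact Finset.prod_comm
    have hother : ∀ (L : 𝒦) (w : V), w ∈ fixSub V L.1 → L ≠ K → pr w = 1 := by
      intro L w hw hne
      have h1 : ∀ k ∈ K.1, k • pr w = pr w := by
        intro k hk
        simp only [pr, Finset.smul_prod']
        refine Fintype.prod_equiv (Equiv.mulLeft (⟨k, hk⟩ : K.1)) _ _ fun j => ?_
        simp [mul_smul]
      have h2 : ∀ l ∈ L.1, l • pr w = pr w := by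
        intro l hl
        simp only [pr, Finset.smul_prod']
        refine Finset.prod_congr rfl fun j _ => ?_
        rw [← mul_smul, hEcomm l (L.2.1 hl) (j : H) (K.2.1 j.prop), mul_smul, hw l hl]
      have hsup : K.1 ⊔ L.1 = E := by
        have hle : K.1 ⊔ L.1 ≤ E := sup_le K.2.1 L.2.1
        have hm := Subgroup.relIndex_mul_relIndex K.1 (K.1 ⊔ L.1) E le_sup_left hle
        rw [K.2.2.1] at hm
        rcases hp.out.eq_one_or_self_of_dvd _ ⟨_, hm.symm⟩ with h | h
        · exfalso
          apply hne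
          have hLK : L.1 ≤ K.1 := le_sup_right.trans (Subgroup.relIndex_eq_one.mp h)
          have hm2 := Subgroup.relIndex_mul_relIndex L.1 K.1 E hLK K.2.1
          rw [K.2.2.1, L.2.2.1] at hm2
          have h3 : L.1.relIndex K.1 = 1 := by
            have := hp.out.pos
            exact Nat.eq_of_mul_eq_mul_right this (hm2.trans (one_mul p).symm)
          exact Subtype.ext (le_antisymm hLK (Subgroup.relIndex_eq_one.mp h3))
        · refine le_antisymm hle (Subgroup.relIndex_eq_one.mp ?_)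
          rw [h] at hm
          exact Nat.eq_of_mul_eq_mul_left hp.out.pos (hm.trans (mul_one p).symm)
      have h3 : pr w ∈ fixSub V E := by
        intro e he
        have hst : E ≤ MulAction.stabilizer H (pr w) := by
          rw [← hsup]; exact sup_le h1 h2
        exact hst he
      rwa [hfixE, mem_bot] at h3
    have hself : ∀ w ∈ fixSub V K.1, pr w = w ^ Nat.card K.1 := by
      intro w hw
      simp only [pr]
      rw [Finset.prod_congr rfl (fun (k : K.1) _ => hw (k : H) k.2), Finset.prod_const, Finset.card_univ,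
        ← Nat.card_eq_fintype_card]
    have hval : ∀ F : 𝒦 → V, (∀ L, F L ∈ fixSub V L.1) → pr (∏ L, F L) = F K ^ Nat.card K.1 := by
      intro F hF
      rw [hprmul, Finset.prod_eq_single K (fun L _ hL => hother L _ (hF L) hL)
        (fun h => absurd (Finset.mem_univ K) h), hself _ (hF K)]
    have heq : f K ^ Nat.card K.1 = g K ^ Nat.card K.1 := by rw [← hval f hf, ← hval g hg, hfg]
    obtain ⟨m, hm⟩ := IsPGroup.iff_card.mp (hP.to_le (K.2.1.trans hEP))
    rw [hm] at heq
    exact (Nat.Coprime.pow_left_bijective (hcop.pow_right m)).1 heq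
  -- some component exists
  obtain ⟨K₀⟩ : Nonempty 𝒦 := by
    by_contra hne
    letI : CommGroup E := { (inferInstance : Group E) with
      mul_comm := fun x y => hEab.is_comm.comm x y }
    obtain ⟨m, hm⟩ := IsPGroup.iff_card.mp (hP.to_le hEP)
    have htop := CoprimeGen.iSup_fix_eq_top _ E V (MulDistribMulAction.toMulAut E V) rfl
      (by rw [hm]; exact (hcop.pow_right m).symm)
    have hbot : (⨆ B ∈ {B : Subgroup E | ∃ c, B ⊔ Subgroup.zpowers c = ⊤},
        CoprimeGen.fix (MulDistribMulAction.toMulAut E V) B) = ⊥ := by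
      refine le_bot_iff.mp (iSup₂_le fun B hB => ?_)
      obtain ⟨c, hc⟩ := hB
      intro v hv
      have hv' : v ∈ fixSub V (B.map E.subtype) := by
        rintro _ ⟨k, hk, rfl⟩; exact hv k hk
      have hidx : B.index ∣ p := by
        haveI : B.Normal := inferInstance
        have hgen : ∀ y : E ⧸ B, y ∈ zpowers (QuotientGroup.mk' B c) := by
          intro y
          obtain ⟨y, rfl⟩ := QuotientGroup.mk'_surjective B y
          obtain ⟨b, hb, _, ⟨j, rfl⟩, rfl⟩ := Subgroup.mem_sup.mp (hc.symm ▸ mem_top y : y ∈ B ⊔ zpowers c)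
          refine ⟨j, ?_⟩
          rw [map_mul, show QuotientGroup.mk' B b = 1 from (QuotientGroup.eq_one_iff b).mpr hb, one_mul,
            map_zpow]
        rw [Subgroup.index_eq_card, ← orderOf_eq_card_of_forall_mem_zpowers hgen]
        refine orderOf_dvd_of_pow_eq_one ?_
        rw [← map_pow, show c ^ p = 1 from Subtype.ext (hEx c c.2), map_one]
      rcases (Nat.dvd_prime hp.out).mp hidx with h | h
      · rw [Subgroup.index_eq_one.mp h, ← MonoidHom.range_eq_map, Subgroup.range_subtype, hfixE] at hv'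
        exact hv'
      · refine (by_contra fun h0 => hne ⟨⟨B.map E.subtype, map_subtype_le B, ?_, fun e => h0 ?_⟩⟩)
        · rw [Subgroup.relIndex, Subgroup.subgroupOf, Subgroup.comap_map_eq_self_of_injective E.subtype_injective, h]
        · rwa [e] at hv'
    rw [hbot] at htop
    obtain ⟨v, hv⟩ := hmov
    apply hv
    rw [(mem_bot.mp (htop.symm ▸ mem_top v : v ∈ (⊥ : Subgroup V)))]
    exact smul_one a
  -- the components generate
  have hgen : ∀ (K : 𝒦), ⨆ h : H, fixSub V (h • K).1 = ⊤ := by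
    intro K
    refine (hirr _ fun g v hv => ?_).resolve_left fun h0 => K.2.2.2 ?_
    · let φ : V →* V := MulDistribMulAction.toMonoidHom V g
      have h1 : φ v ∈ (⨆ h : H, fixSub V (h • K).1).map φ := Subgroup.mem_map_of_mem φ hv
      rw [Subgroup.map_iSup] at h1
      refine (iSup_le fun h => ?_ : (⨆ h : H, (fixSub V (h • K).1).map φ) ≤ _) h1
      rintro _ ⟨w, hw, rfl⟩
      refine mem_iSup_of_mem (g * h) ?_
      rw [mul_smul]
      exact hsmul_mem g _ _ hw
    · refine le_bot_iff.mp ?_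
      have h1 := le_iSup (fun h : H => fixSub V (h • K).1) 1
      rw [h0] at h1
      simpa using h1
  have hne : ∀ K : 𝒦, ∃ v ∈ fixSub V K.1, v ≠ 1 := fun K =>
    (Subgroup.bot_or_exists_ne_one _).resolve_left K.2.2.2
  choose v₁ hv₁ hv₁ne using hne
  by_cases hA : ∃ (h : H) (K : 𝒦), (h * a * h⁻¹) • K ≠ K
  · -- conjugates of `a` move components
    obtain ⟨h₀, K', hK'⟩ := hA
    obtain ⟨S, -, hS⟩ := exists_subset_stab (Ω := 𝒦) hp2 hP _ ⊤ Set.univ rfl (fun _ _ _ _ => Set.mem_univ _)
    refine ⟨∏ K, if K ∈ S then v₁ K else 1, fun h hfix => hK' ?_⟩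
    set f : 𝒦 → V := fun K => if K ∈ S then v₁ K else 1 with hf
    set c := h * a * h⁻¹ with hc
    have hfmem : ∀ K, f K ∈ fixSub V K.1 := fun K => by
      simp only [hf]; split_ifs
      · exact hv₁ K
      · exact one_mem _
    have heq : (fun K => c • f (c⁻¹ • K)) = f := by
      refine hindep _ (fun K => ?_) f hfmem ?_
      · have := hsmul_mem c _ _ (hfmem (c⁻¹ • K))
        rwa [smul_inv_smul] at this
      · rw [← Fintype.prod_equiv (MulAction.toPerm c) (fun K => c • f K) (fun K => c • f (c⁻¹ • K))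
          (fun K => by simp [MulAction.toPerm]), ← Finset.smul_prod']
        exact hfix
    have hstab : ∀ K ∈ S, c • K ∈ S := by
      intro K hK
      have h1 := congrFun heq (c • K)
      simp only [inv_smul_smul, hf, if_pos hK] at h1
      by_contra hcK
      rw [if_neg hcK] at h1
      exact hv₁ne K (MulAction.injective c (h1.trans (smul_one c).symm))
    have hall : ∀ K : 𝒦, c • K = K := fun K =>
      hS ⟨c, hPn.conj_mem a ha h⟩ (mem_top _) hstab K (Set.mem_univ K)
    have h2 := hall ((h * h₀⁻¹) • K')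
    rw [← mul_smul, show c * (h * h₀⁻¹) = h * h₀⁻¹ * (h₀ * a * h₀⁻¹) by rw [hc]; group, mul_smul] at h2
    exact MulAction.injective _ h2
  · -- `a` fixes all components
    push Not at hA
    obtain ⟨K₁, hK₁⟩ : ∃ K : 𝒦, ∃ v ∈ fixSub V K.1, a • v ≠ v := by
      by_contra hno
      push Not at hno
      obtain ⟨v, hv⟩ := hmov
      apply hv
      let F : Subgroup V := fixSub V (zpowers a)
      have hF : ⊤ ≤ F := by
        rw [← hgen K₀]
        refine iSup_le fun h w hw => ?_
        have : zpowers a ≤ MulAction.stabilizer H w := zpowers_le.mpr (hno _ w hw)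
        exact fun k hk => this hk
      exact hF (mem_top v) a (mem_zpowers a)
    let H₀ := MulAction.stabilizer H K₁
    have haH₀ : a ∈ H₀ := MulAction.mem_stabilizer_iff.mpr (by simpa using hA 1 K₁)
    have hW : Nat.card (fixSub V K₁.1) < Nat.card V := by
      refine lt_of_le_of_ne (Subgroup.card_le_card_group _) fun e => ?_
      have htop := Subgroup.eq_top_of_card_eq _ e
      have hK1 : K₁.1 = ⊥ := (Subgroup.eq_bot_iff_forall _).mpr fun k hk => hfaith k fun v =>
        (htop.symm ▸ mem_top v : v ∈ fixSub V K₁.1) k hk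
      have h1 := K₁.2.2.1
      rw [hK1, Subgroup.relIndex_bot_left] at h1
      omega
    letI : MulDistribMulAction H₀ (fixSub V K₁.1) :=
      { smul := fun g w => ⟨(g : H) • (w : V), by
          have := hsmul_mem g K₁ w w.2
          rwa [show (g : H) • K₁ = K₁ from g.2] at this⟩
        one_smul := fun w => Subtype.ext (one_smul H (w : V))
        mul_smul := fun g h w => Subtype.ext (mul_smul (g : H) (h : H) (w : V))
        smul_mul := fun g v w => Subtype.ext (smul_mul' (g : H) (v : V) (w : V))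
        smul_one := fun g => Subtype.ext (smul_one (g : H)) }
    obtain ⟨v₀, hv₀⟩ := IH _ hW H₀ (fixSub V K₁.1) (P.subgroupOf H₀) ⟨a, haH₀⟩ rfl
      (hPn.comap _) (hP.comap_subtype) (hcop.coprime_dvd_left (Subgroup.card_subgroup_dvd_card _))
      ha (Subtype.ext hap) (by
        obtain ⟨v, hv, hav⟩ := hK₁
        exact ⟨⟨v, hv⟩, fun e => hav (congrArg Subtype.val e)⟩)
    let rep : 𝒦 → H := fun K => if h : ∃ g : H, g • K₁ = K then h.choose else 1
    let f : 𝒦 → V := fun K => if ∃ g : H, g • K₁ = K then rep K • (v₀ : V) else 1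
    refine ⟨∏ K, f K, fun h hfix => ?_⟩
    set c := h * a * h⁻¹ with hc
    have hfmem : ∀ K, f K ∈ fixSub V K.1 := fun K => by
      simp only [f]; split_ifs with hg
      · have := hsmul_mem (rep K) K₁ v₀ v₀.2
        simp only [rep, dif_pos hg, hg.choose_spec] at this ⊢
        exact this
      · exact one_mem _
    have heq : (fun K => c • f K) = f := by
      refine hindep _ (fun K => ?_) f hfmem ?_
      · have := hsmul_mem c _ _ (hfmem K)
        rwa [hA h K] at this
      · rw [← Finset.smul_prod']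
        exact hfix
    have hex : ∃ g : H, g • K₁ = h • K₁ := ⟨h, rfl⟩
    have h1 := congrFun heq (h • K₁)
    simp only [f, if_pos hex, rep, dif_pos hex] at h1
    set g := hex.choose with hg
    have hgH : g⁻¹ * h ∈ H₀ := by
      show (g⁻¹ * h) • K₁ = K₁
      rw [mul_smul, ← hex.choose_spec, inv_smul_smul]
    refine hv₀ ⟨g⁻¹ * h, hgH⟩ (Subtype.ext ?_)
    show (g⁻¹ * h * a * (g⁻¹ * h)⁻¹) • (v₀ : V) = v₀
    rw [show g⁻¹ * h * a * (g⁻¹ * h)⁻¹ = g⁻¹ * (c * g) by rw [hc]; group, mul_smul, mul_smul, h1,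
      inv_smul_smul]

omit [Finite V] [MulDistribMulAction H V] in
theorem two_class_of_small (hp2 : p ≠ 2) (hPn : P.Normal) (hP : IsPGroup p P)
    (hel : ∀ E : Subgroup H, E.Normal → E ≤ P → IsMulCommutative E → (∀ x ∈ E, x ^ p = 1) → Nat.card E ≤ p) :
    ∀ x y : P, (x * y * x⁻¹ * y⁻¹) ^ p = 1 ∧ ∀ w : P, Commute (x * y * x⁻¹ * y⁻¹) w := by
  haveI := hPn
  have hsymp : ∀ A : Subgroup P, A.Characteristic → IsMulCommutative A → IsCyclic A := by
    intro A hA hAab
    by_contra hcyc
    obtain ⟨q, x, y, hq, hx, hy, hox, hoy, hyx⟩ := Coprime.exists_pair_of_not_isCyclic (A := A) hcyc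
    have hqp : q = p := by
      obtain ⟨k, hk⟩ := hP x
      have h1 : q ∣ p ^ k := hox ▸ orderOf_dvd_of_pow_eq_one hk
      exact (Nat.prime_dvd_prime_iff_eq hq hp.out).mp (hq.dvd_of_dvd_pow h1)
    rw [hqp] at hox hoy
    have hcomm : ∀ s ∈ A, ∀ t ∈ A, Commute s t := fun s hs t ht =>
      congrArg Subtype.val (hAab.is_comm.comm ⟨s, hs⟩ ⟨t, ht⟩)
    let Ω : Subgroup P :=
      { carrier := {s | s ∈ A ∧ s ^ p = 1}
        one_mem' := ⟨one_mem _, one_pow _⟩
        mul_mem' := fun {s t} hs ht => ⟨mul_mem hs.1 ht.1, by rw [(hcomm s hs.1 t ht.1).mul_pow, hs.2, ht.2, one_mul]⟩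
        inv_mem' := fun {s} hs => ⟨inv_mem hs.1, by rw [inv_pow, hs.2, inv_one]⟩ }
    have hΩ : Ω.Characteristic := characteristic_iff_map_le.mpr fun φ => by
      rintro _ ⟨s, ⟨hs, hsp⟩, rfl⟩
      refine ⟨characteristic_iff_map_le.mp hA φ ⟨s, hs, rfl⟩, ?_⟩
      show (φ.toMonoidHom s) ^ p = 1
      rw [← map_pow, hsp, map_one]
    have hbound := hel (Ω.map P.subtype) inferInstance (map_subtype_le _) ⟨⟨by
        rintro ⟨_, s, hs, rfl⟩ ⟨_, t, ht, rfl⟩
        exact Subtype.ext (congrArg P.subtype (hcomm s hs.1 t ht.1).eq)⟩⟩ (by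
        rintro _ ⟨s, hs, rfl⟩
        rw [← map_pow, hs.2, map_one])
    rw [Subgroup.card_map_of_injective P.subtype_injective] at hbound
    have hxΩ : x ∈ Ω := ⟨hx, by rw [← hox, pow_orderOf_eq_one]⟩
    have hlt : zpowers x < Ω := lt_of_le_of_ne (zpowers_le.mpr hxΩ) fun e =>
      hyx (e.symm ▸ (⟨hy, by rw [← hoy, pow_orderOf_eq_one]⟩ : y ∈ Ω))
    have hc : Nat.card (zpowers x) < Nat.card Ω := by
      refine lt_of_le_of_ne (Subgroup.card_le_of_le hlt.le) fun e => hlt.ne ?_
      exact Subgroup.eq_of_le_of_card_ge hlt.le e.ge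
    rw [Nat.card_zpowers, hox] at hc
    omega
  obtain ⟨E, R, hER, htop, hE, hR⟩ := PGroups.SymplecticType.main hP hsymp
  have hRc : IsCyclic R := hR.resolve_right fun h => hp2 h.1
  obtain ⟨r₀, hr₀⟩ := (Subgroup.isCyclic_iff_exists_zpowers_eq_top R).mp hRc
  have hRR : ∀ r ∈ R, ∀ s ∈ R, Commute r s := by
    intro r hr s hs
    rw [← hr₀] at hr hs
    obtain ⟨i, rfl⟩ := hr
    obtain ⟨j, rfl⟩ := hs
    exact (Commute.refl r₀).zpow_zpow i j
  have hRcent : R ≤ Subgroup.center P := by
    intro r hr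
    rw [mem_center_iff]
    intro w
    have hle : E ⊔ R ≤ centralizer {r} := sup_le
      (fun e he => mem_centralizer_singleton_iff.mpr (hER e he r hr))
      (fun s hs => mem_centralizer_singleton_iff.mpr (hRR s hs r hr).eq)
    exact mem_centralizer_singleton_iff.mp (hle (htop.symm ▸ mem_top w))
  haveI : R.Normal := ⟨fun r hr g => by
    rw [mem_center_iff.mp (hRcent hr) g, mul_inv_cancel_right]; exact hr⟩
  intro x y
  have hxm : x ∈ E ⊔ R := by rw [htop]; exact mem_top x
  have hym : y ∈ E ⊔ R := by rw [htop]; exact mem_top y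
  obtain ⟨e, he, r, hr, rfl⟩ := Subgroup.mem_sup_of_normal_right.mp hxm
  obtain ⟨f, hf, s, hs, rfl⟩ := Subgroup.mem_sup_of_normal_right.mp hym
  have hrc : ∀ w, r * w = w * r := fun w => (mem_center_iff.mp (hRcent hr) w).symm
  have hsc : ∀ w, s * w = w * s := fun w => (mem_center_iff.mp (hRcent hs) w).symm
  have hcomm : e * r * (f * s) * (e * r)⁻¹ * (f * s)⁻¹ = e * f * e⁻¹ * f⁻¹ := by
    calc e * r * (f * s) * (e * r)⁻¹ * (f * s)⁻¹ = e * (r * (f * s) * r⁻¹) * e⁻¹ * s⁻¹ * f⁻¹ := by group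
      _ = e * (f * s) * e⁻¹ * s⁻¹ * f⁻¹ := by rw [hrc, mul_inv_cancel_right]
      _ = e * f * (s * e⁻¹) * s⁻¹ * f⁻¹ := by group
      _ = _ := by rw [hsc, mul_assoc (e * f), mul_inv_cancel_right]
  rw [hcomm]
  rcases hE with rfl | hE
  · rw [mem_bot.mp he]; simp
  · have hmem : (⟨e, he⟩ * ⟨f, hf⟩ * ⟨e, he⟩⁻¹ * ⟨f, hf⟩⁻¹ : E) ∈ Subgroup.center E := by
      rw [← hE.1.2.2, commutator_def]
      exact Subgroup.commutator_mem_commutator (Subgroup.mem_top _) (Subgroup.mem_top _)
    constructor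
    · have h1 : (⟨e * f * e⁻¹ * f⁻¹, mul_mem (mul_mem (mul_mem he hf) (inv_mem he)) (inv_mem hf)⟩ : E) ^ p = 1 := by
        have h2 := pow_card_eq_one' (G := Subgroup.center E) (x := ⟨_, hmem⟩)
        rw [hE.2] at h2
        exact congrArg Subtype.val h2
      exact congrArg Subtype.val h1
    · intro w
      have hle : E ⊔ R ≤ centralizer {e * f * e⁻¹ * f⁻¹} := sup_le
        (fun g hg => mem_centralizer_singleton_iff.mpr
          (congrArg Subtype.val (mem_center_iff.mp hmem ⟨g, hg⟩)))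
        (fun g hg => mem_centralizer_singleton_iff.mpr (mem_center_iff.mp (hRcent hg) _).symm)
      exact (mem_centralizer_singleton_iff.mp (hle (htop.symm ▸ mem_top w))).symm

theorem pow_bound {p k : ℕ} (hp : 3 ≤ p) :
    p ^ (2 * (k + 1) + 1) ≤ 2 * ((p + 1) ^ p ^ k) ^ (p - 1) := by
  rw [← pow_mul]
  rcases Nat.eq_zero_or_pos k with rfl | hk
  · rcases Nat.eq_or_lt_of_le hp with rfl | hp4
    · norm_num
    · calc p ^ (2 * (0 + 1) + 1) ≤ (p + 1) ^ 3 := Nat.pow_le_pow_left (by omega) 3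
        _ ≤ (p + 1) ^ (p ^ 0 * (p - 1)) := Nat.pow_le_pow_right (by omega) (by rw [pow_zero, one_mul]; omega)
        _ ≤ _ := Nat.le_mul_of_pos_left _ two_pos
  · have h1 : 2 * (k + 1) + 1 ≤ p ^ k * (p - 1) := by
      have h2 : ∀ j : ℕ, 2 * (j + 2) + 1 ≤ 3 ^ (j + 1) * 2 := by
        intro j
        induction j with
        | zero => norm_num
        | succ j ih => rw [pow_succ]; omega
      obtain ⟨j, rfl⟩ : ∃ j, k = j + 1 := ⟨k - 1, by omega⟩
      exact (h2 j).trans (Nat.mul_le_mul (Nat.pow_le_pow_left hp _) (by omega))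
    calc p ^ (2 * (k + 1) + 1) ≤ (p + 1) ^ (2 * (k + 1) + 1) := Nat.pow_le_pow_left (by omega) _
      _ ≤ (p + 1) ^ (p ^ k * (p - 1)) := Nat.pow_le_pow_right (by omega) h1
      _ ≤ _ := Nat.le_mul_of_pos_left _ two_pos

/-- The case where all elementary abelian normal subgroups are small. -/
theorem core_small (hp2 : p ≠ 2) (hfaith : ∀ h : H, (∀ v : V, h • v = v) → h = 1)
    (hirr : ∀ U : Subgroup V, (∀ h : H, ∀ u ∈ U, h • u ∈ U) → U = ⊥ ∨ U = ⊤)
    (hPn : P.Normal) (hP : IsPGroup p P) (hcop : (Nat.card V).Coprime p)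
    (ha : a ∈ P) (hap : a ^ p = 1) (hmov : ∃ v : V, a • v ≠ v)
    (hel : ∀ E : Subgroup H, E.Normal → E ≤ P → IsMulCommutative E → (∀ x ∈ E, x ^ p = 1) → Nat.card E ≤ p) :
    ∃ v : V, ∀ h : H, (h * a * h⁻¹) • v ≠ v := by
  classical
  haveI : Fintype H := Fintype.ofFinite H
  haveI : Fintype V := Fintype.ofFinite V
  have ha1 : a ≠ 1 := fun h => by obtain ⟨v, hv⟩ := hmov; exact hv (by rw [h, one_smul])
  have hcl := two_class_of_small hp2 hPn hP hel
  have hcl' : ∀ x ∈ P, ∀ y ∈ P, (x * y * x⁻¹ * y⁻¹) ^ p = 1 ∧ ∀ w ∈ P, Commute (x * y * x⁻¹ * y⁻¹) w :=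
    fun x hx y hy => ⟨congrArg Subtype.val (hcl ⟨x, hx⟩ ⟨y, hy⟩).1,
      fun w hw => congrArg Subtype.val ((hcl ⟨x, hx⟩ ⟨y, hy⟩).2 ⟨w, hw⟩)⟩
  let Q : Subgroup H :=
    { carrier := {x | x ∈ P ∧ x ^ p = 1}
      one_mem' := ⟨one_mem _, one_pow _⟩
      mul_mem' := fun {x y} hx hy => by
        refine ⟨mul_mem hx.1 hy.1, ?_⟩
        obtain ⟨hd, hdc⟩ := hcl' y hy.1 x hx.1
        exact Components.mul_pow_eq_one_of_class_two hp.out hp2
          (d := y * x * y⁻¹ * x⁻¹) (fun w hw => by rcases hw with rfl | rfl; exacts [hdc _ hx.1, hdc _ hy.1])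
          (by group) hd hx.2 hy.2
      inv_mem' := fun {x} hx => ⟨P.inv_mem hx.1, by rw [inv_pow, hx.2, inv_one]⟩ }
  have hQn : Q.Normal := ⟨fun x hx g => ⟨hPn.conj_mem x hx.1 g, by rw [conj_pow, hx.2, mul_one, mul_inv_cancel]⟩⟩
  set Z := Q ⊓ centralizer (Q : Set H) with hZdef
  haveI := hQn
  have hZn : Z.Normal := inferInstance
  have hZcard : Nat.card Z ≤ p := hel Z hZn (fun x hx => hx.1.1)
    ⟨⟨fun x y => Subtype.ext (mem_centralizer_iff.mp y.2.2 x x.2.1)⟩⟩ (fun x hx => hx.1.2)
  have hcommZ : ∀ x ∈ Q, ∀ y ∈ Q, x * y * x⁻¹ * y⁻¹ ∈ Z := fun x hx y hy =>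
    ⟨Q.mul_mem (Q.mul_mem (Q.mul_mem hx hy) (Q.inv_mem hx)) (Q.inv_mem hy),
      mem_centralizer_iff.mpr fun w hw => ((hcl' x hx.1 y hy.1).2 w hw.1).eq.symm⟩
  have haQ : a ∈ Q := ⟨ha, hap⟩
  have hconjQ : ∀ h, h * a * h⁻¹ ∈ Q := fun h => hQn.conj_mem a haQ h
  have hoa : orderOf a = p := orderOf_eq_prime hap ha1
  by_cases haZ : a ∈ Z
  · obtain ⟨v, hv⟩ := hmov
    have hv1 : v ≠ 1 := fun h => hv (by rw [h]; exact smul_one a)
    refine ⟨v, fun h hfix => hv1 ?_⟩
    set c := h * a * h⁻¹ with hc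
    have hc1 : c ≠ 1 := by
      rw [hc, ne_eq, conj_eq_one_iff]; exact ha1
    have hcZ : zpowers c = Z := Subgroup.eq_of_le_of_card_ge (zpowers_le.mpr (hZn.conj_mem a haZ h)) (by
      rw [Nat.card_zpowers, orderOf_eq_prime (hconjQ h).2 hc1]; exact hZcard)
    have hfixZ := fixSub_normal_eq_bot (V := V) hfaith hirr hZn (fun h0 => ha1 (by rw [h0, mem_bot] at haZ; exact haZ))
    have hmem : v ∈ fixSub V Z := by
      intro z hz
      rw [← hcZ] at hz
      exact (zpowers_le.mpr (show c ∈ MulAction.stabilizer H v from hfix)) hz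
    rwa [hfixZ, mem_bot] at hmem
  -- now `Q` has centre of order `p`
  obtain ⟨e, he, hne⟩ : ∃ e ∈ Q, e * a * e⁻¹ * a⁻¹ ≠ 1 := by
    by_contra hno
    push Not at hno
    refine haZ ⟨haQ, mem_centralizer_iff.mpr fun w hw => ?_⟩
    have := hno w hw
    rwa [mul_inv_eq_one, mul_inv_eq_iff_eq_mul] at this
  set z := e * a * e⁻¹ * a⁻¹ with hzdef
  have hzZ : z ∈ Z := hcommZ e he a haQ
  have hoz : orderOf z = p := orderOf_eq_prime hzZ.1.2 hne
  have hzeq : zpowers z = Z := Subgroup.eq_of_le_of_card_ge (zpowers_le.mpr hzZ)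
    (by rw [Nat.card_zpowers, hoz]; exact hZcard)
  let zQ : Q := ⟨z, hzZ.1⟩
  have hzQ : ∀ x : Q, (x : H) ∈ Z → x ∈ zpowers zQ := by
    intro x hx
    rw [← hzeq] at hx
    obtain ⟨k, hk⟩ := Subgroup.mem_zpowers_iff.mp hx
    exact ⟨k, Subtype.ext (by simpa [zQ] using hk)⟩
  have hzc : ∀ x : Q, Commute zQ x := fun x => Subtype.ext (mem_centralizer_iff.mp hzZ.2 x x.2).symm
  have hfpf : ∀ w : V, zQ • w = w → w = 1 := by
    intro w hw
    have hfixZ := fixSub_normal_eq_bot (V := V) hfaith hirr hZn (fun h0 => hne (by rw [h0, mem_bot] at hzZ; exact hzZ))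
    have hmem : w ∈ fixSub V Z := by
      intro x hx
      rw [← hzeq] at hx
      exact (zpowers_le.mpr (show z ∈ MulAction.stabilizer H w from hw)) hx
    rwa [hfixZ, mem_bot] at hmem
  have hozQ : orderOf zQ = p := by
    rw [← hoz]; exact (orderOf_injective Q.subtype Q.subtype_injective zQ).symm
  have hcenQ : ∀ x : Q, (∀ y, Commute x y) → x ∈ zpowers zQ := fun x hx =>
    hzQ x ⟨x.2, mem_centralizer_iff.mpr fun w hw => (congrArg Subtype.val (hx ⟨w, hw⟩)).symm⟩
  have hcommQ : ∀ x y : Q, x * y * x⁻¹ * y⁻¹ ∈ zpowers zQ := fun x y => hzQ _ (hcommZ x x.2 y y.2)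
  have hV1 : 1 < Nat.card V := by
    obtain ⟨v, hv⟩ := hmov
    have : Nontrivial V := ⟨⟨v, 1, fun h => hv (by rw [h]; exact smul_one a)⟩⟩
    exact Finite.one_lt_card
  have hexpQ : ∀ x : Q, x ^ p = 1 := fun x => Subtype.ext x.2.2
  -- all noncentral elements have equally many fixed points
  have hpow : ∀ c : Q, (c : H) ∉ Z → Nat.card V = Nat.card (fixOne V c) ^ p := by
    intro c hc
    obtain ⟨d, hd⟩ : ∃ d : Q, d * c * d⁻¹ * c⁻¹ ≠ 1 := by
      by_contra hno
      push Not at hno
      refine hc ⟨c.2, mem_centralizer_iff.mpr fun w hw => ?_⟩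
      have := hno ⟨w, hw⟩
      rw [mul_inv_eq_one, mul_inv_eq_iff_eq_mul] at this
      exact congrArg Subtype.val this
    obtain ⟨ho, hz'⟩ := exists_conj_eq_mul hozQ (hcommQ d c) hd
    refine card_eq_pow (a := c) (z := d * c * d⁻¹ * c⁻¹) (e := d) hcop (hexpQ c) (hexpQ _) (fun x => ?_) (fun w hw => ?_) ?_
    · obtain ⟨k, hk⟩ := Subgroup.mem_zpowers_iff.mp (hcommQ d c)
      rw [← hk]; exact (hzc x).zpow_left k
    · refine hfpf w ?_
      have hsub : zpowers (d * c * d⁻¹ * c⁻¹) ≤ MulAction.stabilizer Q w := zpowers_le.mpr hw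
      exact hsub (hz'.ge (mem_zpowers zQ))
    · have hcen : Commute (d * c * d⁻¹ * c⁻¹) c := by
        obtain ⟨k, hk⟩ := Subgroup.mem_zpowers_iff.mp (hcommQ d c)
        rw [← hk]; exact (hzc c).zpow_left k
      rw [← hcen.eq]; group
  have haQZ : ((⟨a, haQ⟩ : Q) : H) ∉ Z := haZ
  set X := Nat.card (fixOne V (⟨a, haQ⟩ : Q)) with hXdef
  have hVX : Nat.card V = X ^ p := hpow _ haQZ
  obtain ⟨k, hkQ, hbound⟩ := card_ge (Nat.card Q) Q V zQ rfl hexpQ hozQ hzc hcenQ hcommQ hcop hfpf hV1
  obtain ⟨j, rfl⟩ : ∃ j, k = j + 1 := by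
    rcases Nat.eq_zero_or_pos k with rfl | hk
    · exfalso
      rw [Nat.mul_zero, Nat.zero_add, pow_one] at hkQ
      apply haZ
      have : Z = Q := Subgroup.eq_of_le_of_card_ge inf_le_left (by rw [hkQ, ← hzeq, Nat.card_zpowers, hoz])
      rw [this]; exact haQ
    · exact ⟨k - 1, by omega⟩
  have hX : (p + 1) ^ p ^ j ≤ X := by
    refine (Nat.pow_le_pow_iff_left hp.out.ne_zero).mp ?_
    rw [← hVX, ← pow_mul, ← pow_succ]; exact hbound
  have hp3 : 3 ≤ p := by have := hp.out.two_le; omega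
  have hX1 : 2 ≤ X := by
    have h1 : p + 1 ≤ (p + 1) ^ p ^ j := Nat.le_self_pow (pow_ne_zero _ hp.out.ne_zero) _
    omega
  -- double counting
  by_contra hcov
  push Not at hcov
  let C : Finset H := Finset.univ.filter fun c => c ∈ Q ∧ c ∉ Z
  let N : Finset V := Finset.univ.erase 1
  have hdc := Finset.sum_card_bipartiteAbove_eq_sum_card_bipartiteBelow
    (r := fun (c : H) (v : V) => c • v = v) (s := C) (t := N)
  have hlo : 2 * N.card ≤ ∑ v ∈ N, (C.filter fun c => c • v = v).card := by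
    have hmin : ∀ v ∈ N, 2 ≤ (C.filter fun c => c • v = v).card := by
      intro v _
      obtain ⟨h, hh⟩ := hcov v
      set c := h * a * h⁻¹ with hc
      have hcZ : c ∉ Z := fun hcz => haZ (by
        have := hZn.conj_mem c hcz h⁻¹
        rwa [hc, show h⁻¹ * (h * a * h⁻¹) * h⁻¹⁻¹ = a by group] at this)
      have hcQ : c ∈ Q := hconjQ h
      have hne2 : c ≠ c⁻¹ := by
        intro e
        have h2 : c ^ 2 = 1 := by
          rw [sq]; nth_rewrite 2 [e]; exact mul_inv_cancel c
        have h3 : orderOf c ∣ 2 := orderOf_dvd_of_pow_eq_one h2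
        have hc1 : c ≠ 1 := fun e1 => hcZ (e1 ▸ one_mem Z)
        rw [orderOf_eq_prime hcQ.2 hc1] at h3
        have := Nat.le_of_dvd two_pos h3
        omega
      refine le_trans (le_of_eq (Finset.card_pair hne2).symm) (Finset.card_le_card ?_)
      intro x hx
      simp only [Finset.mem_insert, Finset.mem_singleton] at hx
      simp only [C, Finset.mem_filter, Finset.mem_univ, true_and]
      rcases hx with rfl | rfl
      · exact ⟨⟨hcQ, hcZ⟩, hh⟩
      · exact ⟨⟨inv_mem hcQ, fun h' => hcZ (inv_mem_iff.mp h')⟩, inv_smul_eq_iff.mpr hh.symm⟩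
    calc 2 * N.card = ∑ v ∈ N, 2 := by rw [Finset.sum_const, smul_eq_mul, mul_comm]
      _ ≤ _ := Finset.sum_le_sum hmin
  have hhi : ∑ c ∈ C, (N.filter fun v => c • v = v).card = C.card * (X - 1) := by
    rw [← smul_eq_mul, ← Finset.sum_const]
    refine Finset.sum_congr rfl fun c hc => ?_
    simp only [C, Finset.mem_filter, Finset.mem_univ, true_and] at hc
    have hcX : Nat.card (fixOne V (⟨c, hc.1⟩ : Q)) = X :=
      Nat.pow_left_injective hp.out.ne_zero ((hpow ⟨c, hc.1⟩ hc.2).symm.trans hVX)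
    have hset : N.filter (fun v => c • v = v) = (Finset.univ.filter fun v => c • v = v).erase 1 := by
      ext v
      simp [N, and_comm]
    rw [hset, Finset.card_erase_of_mem (by simp), ← hcX, Nat.card_eq_fintype_card, Fintype.card_subtype]
    rfl
  have hN : N.card = X ^ p - 1 := by
    rw [Finset.card_erase_of_mem (Finset.mem_univ _), Finset.card_univ, ← Nat.card_eq_fintype_card, hVX]
  have hC : C.card < Nat.card Q := by
    rw [Nat.card_eq_fintype_card, Fintype.card_subtype]
    refine Finset.card_lt_card ((Finset.ssubset_iff_of_subset ?_).mpr ⟨1, by simp, by simp [C, one_mem]⟩)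
    intro x hx
    simp only [C, Finset.mem_filter, Finset.mem_univ, true_and] at hx ⊢
    exact hx.1
  have hmain : 2 * (X ^ p - 1) ≤ C.card * (X - 1) := by
    rw [← hN, ← hhi]
    exact hlo.trans (le_of_eq hdc.symm)
  have hle2 : C.card + 1 ≤ 2 * X ^ (p - 1) := by
    calc C.card + 1 ≤ Nat.card Q := hC
      _ = p ^ (2 * (j + 1) + 1) := hkQ
      _ ≤ 2 * ((p + 1) ^ p ^ j) ^ (p - 1) := pow_bound hp3
      _ ≤ 2 * X ^ (p - 1) := Nat.mul_le_mul_left _ (Nat.pow_le_pow_left hX _)
  have h3 : X ^ (p - 1) * (X - 1) ≤ X ^ p - 1 := by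
    rw [Nat.mul_sub, mul_one, ← pow_succ, Nat.sub_add_cancel hp.out.one_le]
    exact Nat.sub_le_sub_left (Nat.one_le_pow _ _ (by omega)) _
  have h4 : (C.card + 1) * (X - 1) ≤ 2 * (X ^ (p - 1) * (X - 1)) := by
    rw [← mul_assoc]; exact Nat.mul_le_mul_right _ hle2
  rw [add_mul, one_mul] at h4
  omega

end core

/-- A class of elements of order `p` (`p` odd) in a normal `p`-subgroup, acting nontrivially on an abelian
group of order prime to `p`, leaves some element unfixed by all of its members. -/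
theorem exists_moved {p : ℕ} [hp : Fact p.Prime] (hp2 : p ≠ 2) : ∀ n, Statement.{u} p n := by
  intro n
  induction n using Nat.strong_induction_on with
  | _ n ih =>
    intro H _ _ V _ _ _ P a hn hPn hP hcop ha hap hmov
    by_cases hirr : ∀ U : Subgroup V, (∀ h : H, ∀ u ∈ U, h • u ∈ U) → U = ⊥ ∨ U = ⊤
    swap
    · push Not at hirr
      obtain ⟨U, hU, hUb, hUt⟩ := hirr
      have hUlt : Nat.card U < n := by
        rw [← hn]
        exact lt_of_le_of_ne (Subgroup.card_le_card_group _) fun e => hUt (Subgroup.eq_top_of_card_eq _ e)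
      have hqlt : Nat.card (V ⧸ U) < n := by
        rw [← hn, Subgroup.card_eq_card_quotient_mul_card_subgroup U]
        exact lt_mul_of_one_lt_right Nat.card_pos (U.one_lt_card_iff_ne_bot.mpr hUb)
      by_cases haU : ∃ u ∈ U, a • u ≠ u
      · letI : MulDistribMulAction H U :=
          { smul := fun g w => ⟨g • (w : V), hU g w w.2⟩
            one_smul := fun w => Subtype.ext (one_smul H (w : V))
            mul_smul := fun g h w => Subtype.ext (mul_smul g h (w : V))
            smul_mul := fun g v w => Subtype.ext (smul_mul' g (v : V) (w : V))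
            smul_one := fun g => Subtype.ext (smul_one g) }
        obtain ⟨v, hv⟩ := ih _ hUlt H U P a rfl hPn hP (hcop.coprime_dvd_left (Subgroup.card_subgroup_dvd_card _))
          ha hap (by obtain ⟨u, hu, hau⟩ := haU; exact ⟨⟨u, hu⟩, fun e => hau (congrArg Subtype.val e)⟩)
        exact ⟨v, fun h e => hv h (Subtype.ext e)⟩
      · push Not at haU
        let φ : H → (V ⧸ U →* V ⧸ U) := fun g => QuotientGroup.map U U (MulDistribMulAction.toMonoidHom V g)
          (fun u hu => hU g u hu)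
        letI : MulDistribMulAction H (V ⧸ U) :=
          { smul := fun g q => φ g q
            one_smul := fun q => by
              obtain ⟨x, rfl⟩ := QuotientGroup.mk'_surjective U q
              show QuotientGroup.mk' U ((1 : H) • x) = _
              rw [one_smul]
            mul_smul := fun g h q => by
              obtain ⟨x, rfl⟩ := QuotientGroup.mk'_surjective U q
              show QuotientGroup.mk' U ((g * h) • x) = QuotientGroup.mk' U (g • h • x)
              rw [mul_smul]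
            smul_mul := fun g q r => map_mul (φ g) q r
            smul_one := fun g => map_one (φ g) }
        obtain ⟨q, hq⟩ := ih _ hqlt H (V ⧸ U) P a rfl hPn hP (hcop.coprime_dvd_left (Subgroup.card_quotient_dvd_card _))
          ha hap (by
            by_contra hno
            push Not at hno
            obtain ⟨v, hv⟩ := hmov
            apply hv
            have h1 : QuotientGroup.mk' U (a • v) = QuotientGroup.mk' U v := hno (QuotientGroup.mk' U v)
            rw [QuotientGroup.mk'_eq_mk'] at h1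
            obtain ⟨u, hu, huv⟩ := h1
            -- `a • v = v * u⁻¹`, iterate
            have hav : a • v = v * u⁻¹ := eq_mul_inv_iff_mul_eq.mpr huv
            have hit : ∀ m : ℕ, a ^ m • v = v * u⁻¹ ^ m := by
              intro m
              induction m with
              | zero => simp
              | succ m ihm =>
                rw [pow_succ', mul_smul, ihm, smul_mul', hav, haU _ (pow_mem (inv_mem hu) m), mul_assoc, ← pow_succ']
            have h2 := hit p
            rw [hap, one_smul] at h2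
            have h3 : u⁻¹ ^ p = 1 := by simpa using h2
            have h4 : u⁻¹ = 1 := (Nat.Coprime.pow_left_bijective hcop).1 (h3.trans (one_pow p).symm)
            rw [hav, h4, mul_one])
        obtain ⟨v, rfl⟩ := QuotientGroup.mk'_surjective U q
        refine ⟨v, fun h e => hq h ?_⟩
        show QuotientGroup.mk' U ((h * a * h⁻¹) • v) = _
        rw [e]
    -- pass to the faithful quotient
    let ρ := (MulDistribMulAction.toMulAut H V).rangeRestrict
    have hρs : Function.Surjective ρ := MonoidHom.rangeRestrict_surjective _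
    have hρ : ∀ (h : H) (v : V), ρ h • v = h • v := fun _ _ => rfl
    suffices hs : ∃ v : V, ∀ h, (h * ρ a * h⁻¹) • v ≠ v by
      obtain ⟨v, hv⟩ := hs
      refine ⟨v, fun h => ?_⟩
      have := hv (ρ h)
      rwa [← map_inv, ← map_mul, ← map_mul, hρ] at this
    have hfaith : ∀ h : (MulDistribMulAction.toMulAut H V).range, (∀ v : V, h • v = v) → h = 1 :=
      fun h hh => Subtype.ext (MulEquiv.ext hh)
    have hirr' : ∀ U : Subgroup V, (∀ h : (MulDistribMulAction.toMulAut H V).range, ∀ u ∈ U, h • u ∈ U) →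
        U = ⊥ ∨ U = ⊤ := fun U hU => hirr U fun h u hu => hρ h u ▸ hU (ρ h) u hu
    have hPn' : (P.map ρ).Normal := hPn.map ρ hρs
    have ha' : ρ a ∈ P.map ρ := mem_map_of_mem ρ ha
    have hap' : ρ a ^ p = 1 := by rw [← map_pow, hap, map_one]
    have hmov' : ∃ v : V, ρ a • v ≠ v := hmov
    by_cases hel : ∀ E : Subgroup (MulDistribMulAction.toMulAut H V).range, E.Normal → E ≤ P.map ρ →
        IsMulCommutative E → (∀ x ∈ E, x ^ p = 1) → Nat.card E ≤ p
    · exact core_small hp2 hfaith hirr' hPn' (hP.map ρ) hcop ha' hap' hmov' hel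
    · push Not at hel
      obtain ⟨E, hEn, hEP, hEab, hEx, hEc⟩ := hel
      exact core_abelian hp2 hfaith hirr' hPn' (hP.map ρ) hcop ha' hap' hmov'
        (fun m hm => ih m (hn ▸ hm)) hEn hEP hEab hEx hEc

end Cfsg.Agent.Lib.FreeClass
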