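import Mathlib.GroupTheory.Sylow
import Mathlib.GroupTheory.Nilpotent

/-!
Subsets with trivial stabiliser for permutation `p`-groups, `p` odd.
-/

set_option autoImplicit false

namespace Cfsg.Agent.Lib.FreeClass

open Subgroup

variable {P : Type*} [Group P] [Finite P] {Ω : Type*} [MulAction P Ω] [Finite Ω]

/-- A `p`-group of odd order stabilizing `O` has a subset of `O` whose stabilizer fixes `O` pointwise. -/
theorem exists_subset_stab {p : ℕ} [Fact p.Prime] (hp : p ≠ 2) (hP : IsPGroup p P) :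
    ∀ (n : ℕ) (M : Subgroup P) (O : Set Ω), O.ncard = n → (∀ g ∈ M, ∀ x ∈ O, g • x ∈ O) →
      ∃ S ⊆ O, ∀ g ∈ M, (∀ x ∈ S, g • x ∈ S) → ∀ x ∈ O, g • x = x := by
  classical
  intro n
  induction n using Nat.strong_induction_on with
  | _ n ih =>
    intro M O hn hO
    rcases O.eq_empty_or_nonempty with rfl | ⟨x, hx⟩
    · exact ⟨∅, subset_rfl, fun g _ _ y hy => absurd hy (Set.notMem_empty y)⟩
    set Ox : Set Ω := {y | ∃ g ∈ M, g • x = y} with hOx
    have hxOx : x ∈ Ox := ⟨1, one_mem _, one_smul _ _⟩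
    have hOxO : Ox ⊆ O := by rintro _ ⟨g, hg, rfl⟩; exact hO g hg x hx
    have hOxinv : ∀ g ∈ M, ∀ y ∈ Ox, g • y ∈ Ox := by
      rintro g hg _ ⟨h, hh, rfl⟩
      exact ⟨g * h, mul_mem hg hh, mul_smul _ _ _⟩
    by_cases htrans : Ox = O
    swap
    · have h1 : Ox.ncard < n := by
        rw [← hn]
        exact Set.ncard_lt_ncard (lt_of_le_of_ne hOxO htrans)
      have h2 : (O \ Ox).ncard < n := by
        rw [← hn]
        refine Set.ncard_lt_ncard (lt_of_le_of_ne Set.diff_subset fun e => ?_)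
        exact (e.ge hx).2 hxOx
      obtain ⟨S₁, hS₁, hs₁⟩ := ih _ h1 M Ox rfl hOxinv
      have hinv2 : ∀ g ∈ M, ∀ y ∈ O \ Ox, g • y ∈ O \ Ox := by
        refine fun g hg y hy => ⟨hO g hg y hy.1, fun h => hy.2 ?_⟩
        simpa using hOxinv g⁻¹ (inv_mem hg) _ h
      obtain ⟨S₂, hS₂, hs₂⟩ := ih _ h2 M (O \ Ox) rfl hinv2
      refine ⟨S₁ ∪ S₂, Set.union_subset (hS₁.trans hOxO) (hS₂.trans Set.diff_subset),
        fun g hg hgS y hy => ?_⟩
      by_cases hyx : y ∈ Ox
      · refine hs₁ g hg (fun z hz => ?_) y hyx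
        rcases hgS z (Or.inl hz) with h | h
        · exact h
        · exact absurd (hOxinv g hg z (hS₁ hz)) (hS₂ h).2
      · refine hs₂ g hg (fun z hz => ?_) y ⟨hy, hyx⟩
        rcases hgS z (Or.inr hz) with h | h
        · exact absurd (hS₁ h) (hinv2 g hg z (hS₂ hz)).2
        · exact h
    -- the transitive case
    by_cases hone : ∀ y ∈ O, y = x
    · exact ⟨∅, Set.empty_subset _, fun g hg _ y hy => by rw [hone y hy, hone _ (hO g hg x hx)]⟩
    set St := (MulAction.stabilizer P x).subgroupOf M with hSt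
    have hStne : St ≠ ⊤ := by
      intro h
      refine hone fun y hy => ?_
      rw [← htrans] at hy
      obtain ⟨g, hg, rfl⟩ := hy
      have h1 : (⟨g, hg⟩ : M) ∈ St := h ▸ mem_top _
      exact h1
    haveI : Group.IsNilpotent M := (hP.to_subgroup M).isNilpotent
    obtain ⟨K, hK, hStK⟩ := (IsCoatomic.eq_top_or_exists_le_coatom St).resolve_left hStne
    have hKn : K.Normal :=
      Subgroup.NormalizerCondition.normal_of_coatom K Group.normalizerCondition_of_isNilpotent hK
    set M' := K.map M.subtype with hM'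
    have hM'M : M' ≤ M := map_subtype_le K
    let B : Ω → Set Ω := fun y => {z | ∃ g ∈ M', g • y = z}
    have hBself : ∀ y, y ∈ B y := fun y => ⟨1, one_mem _, one_smul _ _⟩
    have hBeq : ∀ y z, z ∈ B y → B z = B y := by
      rintro y _ ⟨g, hg, rfl⟩
      ext w
      constructor
      · rintro ⟨h, hh, rfl⟩; exact ⟨h * g, mul_mem hh hg, mul_smul _ _ _⟩
      · rintro ⟨h, hh, rfl⟩; exact ⟨h * g⁻¹, mul_mem hh (inv_mem hg), by simp [mul_smul]⟩
    have hBinv : ∀ y, ∀ g ∈ M', ∀ z ∈ B y, g • z ∈ B y := by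
      rintro y g hg _ ⟨h, hh, rfl⟩; exact ⟨g * h, mul_mem hg hh, mul_smul _ _ _⟩
    have hBsub : ∀ y ∈ O, B y ⊆ O := by
      rintro y hy _ ⟨g, hg, rfl⟩; exact hO g (hM'M hg) y hy
    have hnormM' : ∀ h ∈ M, ∀ g ∈ M', h * g * h⁻¹ ∈ M' := by
      rintro h hh _ ⟨g, hg, rfl⟩
      exact ⟨⟨h, hh⟩ * g * ⟨h, hh⟩⁻¹, hKn.conj_mem g hg _, rfl⟩
    have hBsmul : ∀ h ∈ M, ∀ y, (h • ·) '' B y = B (h • y) := by
      intro h hh y
      ext w
      constructor
      · rintro ⟨_, ⟨g, hg, rfl⟩, rfl⟩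
        exact ⟨h * g * h⁻¹, hnormM' h hh g hg, by simp [mul_smul]⟩
      · rintro ⟨g, hg, rfl⟩
        refine ⟨(h⁻¹ * g * h) • y, ⟨_, ?_, rfl⟩, by simp [mul_smul]⟩
        simpa using hnormM' h⁻¹ (inv_mem hh) g hg
    have hBne : ∀ y ∈ O, B y ≠ O := by
      intro y hy e
      refine hK.1 (eq_top_iff.mpr fun g _ => ?_)
      have hyx : y ∈ B x := by
        obtain ⟨g', hg', hgy⟩ := (e.ge hx : x ∈ B y)
        exact ⟨g'⁻¹, inv_mem hg', by rw [← hgy, inv_smul_smul]⟩
      have hgx : (g : P) • x ∈ B x := by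
        rw [← hBeq x y hyx, e]; exact hO g g.2 x hx
      obtain ⟨k, hk, hkg⟩ := hgx
      obtain ⟨k', hk', rfl⟩ := hk
      have h1 : k'⁻¹ * g ∈ St := by
        show ((k'⁻¹ * g : M) : P) • x = x
        rw [coe_mul, coe_inv, mul_smul, ← hkg]
        exact inv_smul_smul _ _
      simpa using mul_mem hk' (hStK h1)
    have hlt : ∀ y ∈ O, (B y).ncard < n := fun y hy => by
      rw [← hn]
      exact Set.ncard_lt_ncard (lt_of_le_of_ne (hBsub y hy) (hBne y hy))
    have hcardeq : ∀ y ∈ O, (B y).ncard = (B x).ncard := by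
      intro y hy
      rw [← htrans] at hy
      obtain ⟨g, hg, rfl⟩ := hy
      rw [← hBsmul g hg x, Set.ncard_image_of_injective _ (MulAction.injective g)]
    have hodd : Odd (B x).ncard := by
      have h1 : B x = MulAction.orbit M' x := by
        ext z
        exact ⟨fun ⟨g, hg, e⟩ => ⟨⟨g, hg⟩, e⟩, fun ⟨g, e⟩ => ⟨g, g.2, e⟩⟩
      obtain ⟨k, hk⟩ := (hP.to_subgroup M').card_orbit x
      rw [h1, ← Nat.card_coe_set_eq, hk]
      exact ((Fact.out : p.Prime).odd_of_ne_two hp).pow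
    -- a choice of subset on each block, small or large
    have hsel : ∀ C : Set Ω, ∃ T ⊆ C, (∃ y ∈ O, C = B y) →
        ∀ g ∈ M', (∀ z ∈ T, g • z ∈ T) → ∀ z ∈ C, g • z = z := by
      intro C
      by_cases hC : ∃ y ∈ O, C = B y
      · obtain ⟨y, hy, rfl⟩ := hC
        obtain ⟨T, hT, hs⟩ := ih _ (hlt y hy) M' (B y) rfl (hBinv y)
        exact ⟨T, hT, fun _ => hs⟩
      · exact ⟨∅, Set.empty_subset _, fun h => absurd h hC⟩
    choose T hTsub hT using hsel
    let sm : Set Ω → Set Ω := fun C => if 2 * (T C).ncard < C.ncard then T C else C \ T C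
    let lg : Set Ω → Set Ω := fun C => if 2 * (T C).ncard < C.ncard then C \ T C else T C
    have hsize : ∀ y ∈ O, 2 * (sm (B y)).ncard < (B y).ncard ∧ (B y).ncard < 2 * (lg (B y)).ncard := by
      intro y hy
      have h1 := Set.ncard_diff (hTsub (B y))
      have h2 := Set.ncard_le_ncard (hTsub (B y))
      have h3 : (B y).ncard % 2 = 1 := by rw [hcardeq y hy]; exact Nat.odd_iff.mp hodd
      simp only [sm, lg]
      split_ifs with h <;> omega
    let c : Set Ω → Set Ω := fun C => if C = B x then sm C else lg C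
    have hcsub : ∀ C, c C ⊆ C := by
      intro C
      simp only [c, sm, lg]
      split_ifs <;> first | exact hTsub C | exact Set.diff_subset
    have hcstab : ∀ y ∈ O, ∀ g ∈ M', (∀ z ∈ c (B y), g • z ∈ c (B y)) → ∀ z ∈ B y, g • z = z := by
      intro y hy g hg hgc
      refine hT (B y) ⟨y, hy, rfl⟩ g hg ?_
      have hcase : c (B y) = T (B y) ∨ c (B y) = B y \ T (B y) := by
        simp only [c, sm, lg]; split_ifs <;> tauto
      rcases hcase with e | e
      · rwa [e] at hgc
      · rw [e] at hgc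
        intro z hz
        by_contra hgz
        have hsurj : (g • ·) '' (B y \ T (B y)) = B y \ T (B y) := by
          refine Set.eq_of_subset_of_ncard_le (by rintro _ ⟨w, hw, rfl⟩; exact hgc w hw) ?_
          rw [Set.ncard_image_of_injective _ (MulAction.injective g)]
        have h1 : g • z ∈ B y \ T (B y) := ⟨hBinv y g hg z (hTsub _ hz), hgz⟩
        rw [← hsurj] at h1
        obtain ⟨w, hw, hwz⟩ := h1
        exact hw.2 ((MulAction.injective g hwz : w = z) ▸ hz)
    refine ⟨{y ∈ O | y ∈ c (B y)}, fun y hy => hy.1, fun g hg hgS => ?_⟩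
    have hsurj : (g • ·) '' {y ∈ O | y ∈ c (B y)} = {y ∈ O | y ∈ c (B y)} := by
      refine Set.eq_of_subset_of_ncard_le (by rintro _ ⟨w, hw, rfl⟩; exact hgS w hw) ?_
      rw [Set.ncard_image_of_injective _ (MulAction.injective g)]
    have hinter : ∀ y ∈ O, B y ∩ {z ∈ O | z ∈ c (B z)} = c (B y) := by
      intro y hy
      ext z
      constructor
      · rintro ⟨hz, -, hzc⟩; rwa [hBeq y z hz] at hzc
      · intro hz
        have hzB := hcsub _ hz
        exact ⟨hzB, hBsub y hy hzB, by rw [hBeq y z hzB]; exact hz⟩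
    have himg : ∀ y ∈ O, (g • ·) '' c (B y) = c (B (g • y)) := by
      intro y hy
      rw [← hinter y hy, ← hinter _ (hO g hg y hy), Set.image_inter (MulAction.injective g),
        hBsmul g hg y, hsurj]
    have hfix : B (g • x) = B x := by
      by_contra hne
      have h1 := congrArg Set.ncard (himg x hx)
      rw [Set.ncard_image_of_injective _ (MulAction.injective g)] at h1
      simp only [c, if_true, if_neg hne] at h1
      have h2 := (hsize x hx).1
      have h3 := (hsize _ (hO g hg x hx)).2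
      rw [hcardeq _ (hO g hg x hx)] at h3
      omega
    have hgM' : g ∈ M' := by
      obtain ⟨k, hk, hkg⟩ := (hfix ▸ hBself (g • x) : g • x ∈ B x)
      obtain ⟨k', hk', rfl⟩ := hk
      have h1 : k'⁻¹ * ⟨g, hg⟩ ∈ St := by
        show ((k'⁻¹ * ⟨g, hg⟩ : M) : P) • x = x
        rw [coe_mul, coe_inv, mul_smul]
        show (k' : P)⁻¹ • g • x = x
        rw [← hkg]
        exact inv_smul_smul _ _
      refine ⟨⟨g, hg⟩, ?_, rfl⟩
      simpa using mul_mem hk' (hStK h1)
    intro y hy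
    refine hcstab y hy g hgM' (fun z hz => ?_) y (hBself y)
    have hB : B (g • y) = B y := hBeq y _ ⟨g, hgM', rfl⟩
    rw [← hB, ← himg y hy]
    exact ⟨z, hz, rfl⟩

end Cfsg.Agent.Lib.FreeClass
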